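import Mathlib

/-!
Scheme-theoretically dominant immersions.
-/

set_option autoImplicit false
set_option linter.style.haveILetI false

universe u

open CategoryTheory Limits AlgebraicGeometry TopologicalSpace

namespace Groth.Agent.SchDenseLib

variable {X Y : Scheme.{u}}

/-- An ideal sheaf vanishing set-theoretically on a reduced dominating scheme is zero. -/
theorem eq_bot_of_mem_support (f : X ⟶ Y) [IsSchemeTheoreticallyDominant f] [IsReduced X]
    (I : Y.IdealSheafData) (h : ∀ x, f x ∈ I.support) : I = ⊥ := by
  refine le_bot_iff.1 ?_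
  rw [← f.ker_eq_bot, ← Scheme.IdealSheafData.map_bot, Scheme.IdealSheafData.le_map_iff_comap_le]
  refine (Scheme.IdealSheafData.support_eq_top_iff.1 ?_).le
  ext x
  simp [Scheme.IdealSheafData.support_comap, h x]

theorem isReduced_of_nilradical_eq_bot (h : Y.nilradical = ⊥) : IsReduced Y := by
  haveI : ∀ y : Y, _root_.IsReduced (Y.presheaf.stalk y) := fun y => by
    obtain ⟨U, hU, hyU, -⟩ := exists_isAffineOpen_mem_and_subset (x := y) (U := ⊤) trivial
    haveI : _root_.IsReduced Γ(Y, U) := by
      refine ⟨fun a ha => ?_⟩
      have : a ∈ Y.nilradical.ideal ⟨U, hU⟩ := mem_nilradical.2 ha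
      rwa [h, Scheme.IdealSheafData.ideal_bot, Pi.bot_apply, Submodule.mem_bot] at this
    letI := TopCat.Presheaf.algebra_section_stalk Y.presheaf (⟨y, hyU⟩ : U)
    haveI := hU.isLocalization_stalk ⟨y, hyU⟩
    exact isReduced_localizationPreserves (hU.primeIdealOf ⟨y, hyU⟩).asIdeal.primeCompl
      (Y.presheaf.stalk y) inferInstance
  exact isReduced_of_isReduced_stalk Y

theorem isReduced_of_reduced_source (f : X ⟶ Y) [IsSchemeTheoreticallyDominant f] [IsReduced X] :
    IsReduced Y :=
  isReduced_of_nilradical_eq_bot (eq_bot_of_mem_support f _ fun x => by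
    rw [Scheme.support_nilradical]; trivial)

theorem denseRange_of_reduced_source (f : X ⟶ Y) [IsSchemeTheoreticallyDominant f] [IsReduced X] :
    DenseRange f := by
  rw [DenseRange, dense_iff_closure_eq]
  let Z : Closeds Y := ⟨closure (Set.range f), isClosed_closure⟩
  have hI := eq_bot_of_mem_support f (Scheme.IdealSheafData.vanishingIdeal Z) fun x => by
    exact (Scheme.IdealSheafData.le_support_iff_le_vanishingIdeal.2 le_rfl : Z ≤ _)
      (subset_closure ⟨x, rfl⟩)
  refine Set.eq_univ_of_forall fun y => ?_
  have h0 : (Scheme.IdealSheafData.vanishingIdeal Z).support = Z :=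
    Closeds.ext rfl
  rw [hI, Scheme.IdealSheafData.support_bot] at h0
  show y ∈ Z
  rw [← h0]; trivial

/-- Pushing ideal sheaves forward along a closed immersion is injective. -/
theorem map_injective_of_isClosedImmersion (i : X ⟶ Y) [IsClosedImmersion i] {I J : X.IdealSheafData}
    (h : I.map i = J.map i) : I = J := by
  refine Scheme.IdealSheafData.ext_of_iSup_eq_top
    (fun U : Y.affineOpens => ⟨i ⁻¹ᵁ U.1, U.2.preimage i⟩) ?_ fun U => ?_
  · refine eq_top_iff.2 fun x _ => ?_
    obtain ⟨U, hU, hxU, -⟩ := exists_isAffineOpen_mem_and_subset (x := i x) (U := ⊤) trivial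
    exact Opens.mem_iSup.2 ⟨⟨U, hU⟩, hxU⟩
  · have := congrArg (fun K : Y.IdealSheafData => K.ideal U) h
    simp only [Scheme.IdealSheafData.ideal_map_of_isAffineHom] at this
    exact Ideal.comap_injective_of_surjective _ (i.app_surjective U.1 U.2) this

/-- A morphism is scheme-theoretically dominant onto its scheme-theoretic image. -/
theorem toImage_dominant (f : X ⟶ Y) : IsSchemeTheoreticallyDominant f.toImage := by
  refine ⟨map_injective_of_isClosedImmersion f.imageι ?_⟩
  rw [Scheme.IdealSheafData.map_ker, f.toImage_imageι, Scheme.IdealSheafData.map_bot]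
  exact f.ker.ker_subschemeι.symm

/-- An immersion which is scheme-theoretically dominant is an open immersion, if it is quasi-compact or the
source is reduced. -/
theorem isOpenImmersion_of_dominant (f : X ⟶ Y) [IsImmersion f] [IsSchemeTheoreticallyDominant f]
    (hyp : QuasiCompact f ∨ IsReduced X) : IsOpenImmersion f := by
  have hsq : IsPullback f.liftCoborder (𝟙 X) f.coborderRange.ι f :=
    IsOpenImmersion.isPullback _ _ _ _ (by simp) (by
      rw [Scheme.Opens.opensRange_ι, Scheme.Hom.opensRange_of_isIso]
      exact eq_top_iff.2 fun x _ => by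
        show f x ∈ f.coborderRange
        have : f.coborderRange.ι (f.liftCoborder x) = f x := by
          rw [← Scheme.Hom.comp_apply]; simp only [Scheme.Hom.liftCoborder_ι]
        exact this ▸ (f.liftCoborder x).2)
  haveI : IsIso f.liftCoborder := by
    rcases hyp with hq | hred
    · haveI : IsSchemeTheoreticallyDominant f.liftCoborder :=
        IsSchemeTheoreticallyDominant.of_isPullback hsq.flip
      haveI : IsIso f.liftCoborder.imageι :=
        (Scheme.isIso_subschemeι_iff_eq_bot _).2 f.liftCoborder.ker_eq_bot
      rw [← f.liftCoborder.toImage_imageι]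
      infer_instance
    · haveI := isReduced_of_reduced_source f
      haveI : Surjective f.liftCoborder := ⟨fun v => by
        have hc := f.liftCoborder.isClosedEmbedding.isClosed_range
        have : Dense (Set.range f.liftCoborder) := by
          have h := (denseRange_of_reduced_source f).preimage f.coborderRange.ι.isOpenEmbedding.isOpenMap
          refine h.mono ?_
          rintro x ⟨y, hy⟩
          refine ⟨y, f.coborderRange.ι.isOpenEmbedding.injective ?_⟩
          rw [← Scheme.Hom.comp_apply, Scheme.Hom.liftCoborder_ι]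
          exact hy
        exact (hc.closure_eq ▸ this v : v ∈ Set.range f.liftCoborder)⟩
      exact isIso_of_isClosedImmersion_of_surjective _
  rw [← f.liftCoborder_ι]
  infer_instance

/-- Scheme-theoretically dense opens, in the quasi-compact or reduced case, stay so after restriction. -/
theorem homOfLE_dominant (U : Y.Opens) [IsSchemeTheoreticallyDominant U.ι]
    (hyp : QuasiCompact U.ι ∨ IsReduced (U : Scheme.{u})) (W : Y.Opens) :
    IsSchemeTheoreticallyDominant (Y.homOfLE (inf_le_right : U ⊓ W ≤ W)) := by
  rcases hyp with hq | hred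
  · refine IsSchemeTheoreticallyDominant.of_isPullback (f := U.ι) (g := W.ι)
      (pX := Y.homOfLE (inf_le_left : U ⊓ W ≤ U)) ?_
    refine (IsOpenImmersion.isPullback _ _ _ _ (by simp) ?_)
    rw [Scheme.Opens.opensRange_ι]
    ext x
    constructor
    · intro hx
      exact ⟨⟨x.1, hx, x.2⟩, Subtype.ext (by simp)⟩
    · rintro ⟨z, rfl⟩
      show W.ι _ ∈ U
      rw [← Scheme.Hom.comp_apply, Scheme.homOfLE_ι]
      exact z.2.1
  · haveI := isReduced_of_reduced_source U.ι
    haveI : IsDominant (Y.homOfLE (inf_le_right : U ⊓ W ≤ W)) := ⟨by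
      have hd : Dense (U : Set Y) := by
        have := denseRange_of_reduced_source U.ι
        rwa [DenseRange, Scheme.Opens.range_ι] at this
      refine (hd.preimage W.ι.isOpenEmbedding.isOpenMap).mono ?_
      intro w hw
      exact ⟨⟨w.1, hw, w.2⟩, Subtype.ext (by simp)⟩⟩
    exact IsSchemeTheoreticallyDominant.of_isDominant _

end Groth.Agent.SchDenseLib
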